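import Mathlib
import Cfsg.Agent.S0564
import Cfsg.Agent.S0572

/-!
Products of an abelian subgroup and a subgroup of class two.

If `G = AB` is solvable, `A` is abelian and `B' ≤ Z(B)`, then `A` and `B'` generate a proper subgroup.
Descending gives a non-trivial `z ∈ B'` with a metabelian normal closure, by Itô's theorem.
-/

set_option autoImplicit false

namespace CfsgLib.AbelianClassTwo

open Subgroup
open scoped commutatorElement

universe u

theorem sup_commutator_ne_top : ∀ (n : ℕ) {G : Type u} [Group G] [Finite G] [Group.IsSolvable G], Nat.card G = n →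
    ∀ A B : Subgroup G, (∀ x ∈ A, ∀ y ∈ A, x * y = y * x) → (∀ z ∈ ⁅B, B⁆, ∀ b ∈ B, b * z = z * b) →
      (∀ g : G, ∃ a ∈ A, ∃ b ∈ B, g = a * b) → A ≠ ⊤ → A ⊔ ⁅B, B⁆ ≠ ⊤ := by
  intro n
  induction n using Nat.strong_induction_on with
  | _ n ih =>
    intro G _ _ _ hn A B hA hB hAB hAt htop
    haveI : Nontrivial G := by
      by_contra h
      haveI := not_nontrivial_iff_subsingleton.mp h
      exact hAt (Subsingleton.elim _ _)
    -- every non-trivial normal subgroup supplements `A`
    have hsupp : ∀ N : Subgroup G, N.Normal → N ≠ ⊥ → A ⊔ N = ⊤ := by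
      intro N hN hN0
      by_contra hne
      haveI := hN
      have hlt : Nat.card (G ⧸ N) < n := by
        rw [← hn, N.card_eq_card_quotient_mul_card_subgroup]
        exact lt_mul_of_one_lt_right Nat.card_pos (N.one_lt_card_iff_ne_bot.mpr hN0)
      set f := QuotientGroup.mk' N with hf
      refine ih _ hlt rfl (A.map f) (B.map f) ?_ ?_ ?_ ?_ ?_
      · rintro _ ⟨x, hx, rfl⟩ _ ⟨y, hy, rfl⟩
        rw [← map_mul, hA x hx y hy, map_mul]
      · intro z hz b hb
        rw [← map_commutator] at hz
        obtain ⟨z, hz, rfl⟩ := hz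
        obtain ⟨b, hb, rfl⟩ := hb
        rw [← map_mul, hB z hz b hb, map_mul]
      · intro g
        obtain ⟨g, rfl⟩ := QuotientGroup.mk'_surjective N g
        obtain ⟨a, ha, b, hb, rfl⟩ := hAB g
        exact ⟨_, ⟨a, ha, rfl⟩, _, ⟨b, hb, rfl⟩, map_mul _ _ _⟩
      · intro h
        apply hne
        have := congrArg (Subgroup.comap f) h
        rwa [comap_top, comap_map_eq, hf, QuotientGroup.ker_mk'] at this
      · rw [← map_commutator, ← Subgroup.map_sup, htop, map_top_of_surjective f (QuotientGroup.mk'_surjective N)]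
    obtain ⟨V, hV, hV0, hVc⟩ : ∃ V : Subgroup G, V.Normal ∧ V ≠ ⊥ ∧ ∀ x ∈ V, ∀ y ∈ V, x * y = y * x := by
      obtain ⟨k, hk⟩ := Group.IsSolvable.solvable (G := G)
      induction k with
      | zero =>
        rw [derivedSeries_zero] at hk
        exact absurd hk top_ne_bot
      | succ k ihk =>
        by_cases h : derivedSeries G k = ⊥
        · exact ihk h
        · refine ⟨derivedSeries G k, inferInstance, h, fun x hx y hy => ?_⟩
          rw [derivedSeries_succ] at hk
          have := commutator_mem_commutator hx hy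
          rw [hk, mem_bot] at this
          exact commutatorElement_eq_one_iff_mul_comm.mp this
    haveI := hV
    have hAV : A ⊔ V = ⊤ := hsupp V hV hV0
    have hdec : ∀ g : G, ∃ a ∈ A, ∃ v ∈ V, a * v = g := fun g =>
      mem_sup_of_normal_right.mp (hAV ▸ mem_top g)
    -- the centraliser of `V` in `A` is trivial
    have hC : ∀ a ∈ A, (∀ v ∈ V, a * v = v * a) → a = 1 := by
      intro a ha hav
      by_contra ha1
      have hac : a ∈ center G := mem_center_iff.mpr fun g => by
        obtain ⟨a', ha', v, hv, rfl⟩ := hdec g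
        calc a' * v * a = a' * (a * v) := by rw [hav v hv, mul_assoc]
          _ = a * (a' * v) := by rw [← mul_assoc, hA a' ha' a ha, mul_assoc]
      have hN : (zpowers a).Normal := ⟨fun x hx g => by
        have hxc : x ∈ center G := zpowers_le.mpr hac hx
        rw [mem_center_iff.mp hxc g, mul_inv_cancel_right]; exact hx⟩
      have := hsupp (zpowers a) hN (by simpa using ha1)
      rw [sup_of_le_left (zpowers_le.mpr ha)] at this
      exact hAt this
    -- `B'` lies in `V`
    have hder : ∀ x y : G, ⁅x, y⁆ ∈ V := by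
      have hcomm : ∀ x y : G ⧸ V, x * y = y * x := by
        intro x y
        obtain ⟨x, rfl⟩ := QuotientGroup.mk'_surjective V x
        obtain ⟨y, rfl⟩ := QuotientGroup.mk'_surjective V y
        obtain ⟨a, ha, v, hv, rfl⟩ := hdec x
        obtain ⟨a', ha', v', hv', rfl⟩ := hdec y
        have e : ∀ w ∈ V, QuotientGroup.mk' V w = 1 := fun w hw => (QuotientGroup.eq_one_iff w).mpr hw
        rw [map_mul, map_mul, e v hv, e v' hv', mul_one, mul_one, ← map_mul, hA a ha a' ha', map_mul]
      intro x y
      rw [← QuotientGroup.eq_one_iff]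
      show QuotientGroup.mk' V ⁅x, y⁆ = 1
      rw [map_commutatorElement]
      exact commutatorElement_eq_one_iff_mul_comm.mpr (hcomm _ _)
    have hBV : ⁅B, B⁆ ≤ V := commutator_le.mpr fun x _ y _ => hder x y
    -- `B'` is trivial
    have hBbot : ⁅B, B⁆ ≤ A := by
      refine commutator_le.mpr fun x hx y hy => ?_
      have hz : ⁅x, y⁆ ∈ ⁅B, B⁆ := commutator_mem_commutator hx hy
      suffices hBle : ∀ b ∈ B, b ∈ V by
        rw [commutatorElement_eq_one_iff_mul_comm.mpr (hVc x (hBle x hx) y (hBle y hy))]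
        exact A.one_mem
      intro b hb
      obtain ⟨a, ha, v, hv, rfl⟩ := hdec b
      suffices a = 1 by rw [this, one_mul]; exact hv
      have haz : ∀ z ∈ ⁅B, B⁆, a * z = z * a := fun z hz => by
        have h1 : a * v * z = z * (a * v) := hB z hz _ hb
        rw [mul_assoc, hVc v hv z (hBV hz), ← mul_assoc, ← mul_assoc] at h1
        exact mul_right_cancel h1
      have hAle : A ⊔ ⁅B, B⁆ ≤ centralizer {a} := sup_le
        (fun c hc => mem_centralizer_singleton_iff.mpr (hA c hc a ha))
        (fun c hc => mem_centralizer_singleton_iff.mpr (haz c hc).symm)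
      rw [htop] at hAle
      exact hC a ha fun w _ => (mem_centralizer_singleton_iff.mp (hAle (mem_top w))).symm
    rw [sup_of_le_left hBbot] at htop
    exact hAt htop

theorem factor {G : Type u} [Group G] {A B H : Subgroup G} (hAB : ∀ g : G, ∃ a ∈ A, ∃ b ∈ B, g = a * b)
    (hAH : A ≤ H) : ∀ h ∈ H, ∃ a ∈ A, ∃ b ∈ B ⊓ H, h = a * b := fun h hh => by
  obtain ⟨a, ha, b, hb, rfl⟩ := hAB h
  exact ⟨a, ha, b, ⟨hb, by simpa using mul_mem (inv_mem (hAH ha)) hh⟩, rfl⟩

theorem exists_metabelian {G : Type u} [Group G] [Finite G] [Group.IsSolvable G] (A B : Subgroup G)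
    (hA : ∀ x ∈ A, ∀ y ∈ A, x * y = y * x) (hB : ∀ z ∈ ⁅B, B⁆, ∀ b ∈ B, b * z = z * b)
    (hAB : ∀ g : G, ∃ a ∈ A, ∃ b ∈ B, g = a * b) : ∀ (n : ℕ) (H : Subgroup G), Nat.card H = n → A ≤ H →
      ⁅B ⊓ H, B ⊓ H⁆ ≠ ⊥ → ∃ z ∈ ⁅B ⊓ H, B ⊓ H⁆, z ≠ 1 ∧ ∃ L : Subgroup G, A ≤ L ∧ z ∈ L ∧ ⁅B ⊓ L, B ⊓ L⁆ = ⊥ := by
  intro n
  induction n using Nat.strong_induction_on with
  | _ n ih =>
    intro H hn hAH hne
    set D := ⁅B ⊓ H, B ⊓ H⁆ with hD
    have hDH : D ≤ H := (commutator_le_self _).trans inf_le_right
    have hDB : D ≤ ⁅B, B⁆ := commutator_mono inf_le_left inf_le_left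
    have hproper : A ⊔ D ≠ H := by
      intro hAD
      have hAne : A.subgroupOf H ≠ ⊤ := by
        rw [Ne, subgroupOf_eq_top]
        intro hle
        apply hne
        rw [hD, eq_bot_iff, commutator_le]
        intro x hx y hy
        rw [mem_bot, commutatorElement_eq_one_iff_mul_comm]
        exact hA x (hle hx.2) y (hle hy.2)
      have hmap : ((B ⊓ H).subgroupOf H).map H.subtype = B ⊓ H := map_subgroupOf_eq_of_le inf_le_right
      have hmapA : (A.subgroupOf H).map H.subtype = A := map_subgroupOf_eq_of_le hAH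
      refine sup_commutator_ne_top _ rfl (A.subgroupOf H) ((B ⊓ H).subgroupOf H)
        (fun x hx y hy => Subtype.ext (hA x hx y hy)) (fun z hz b hb => Subtype.ext ?_) (fun g => ?_) hAne ?_
      · refine hB z ?_ b (show (b : G) ∈ B ⊓ H from hb).1
        have : (z : G) ∈ ⁅((B ⊓ H).subgroupOf H).map H.subtype, ((B ⊓ H).subgroupOf H).map H.subtype⁆ := by
          rw [← map_commutator]; exact mem_map_of_mem _ hz
        rw [hmap] at this
        exact hDB this
      · obtain ⟨a, ha, b, hb, e⟩ := factor hAB hAH g g.2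
        exact ⟨⟨a, hAH ha⟩, ha, ⟨b, hb.2⟩, hb, Subtype.ext e⟩
      · apply map_injective H.subtype_injective
        rw [Subgroup.map_sup, map_commutator, hmap, hmapA, ← MonoidHom.range_eq_map, range_subtype]
        exact hAD
    set L := A ⊔ D with hL
    have hLH : L ≤ H := sup_le hAH hDH
    by_cases hab : ⁅B ⊓ L, B ⊓ L⁆ = ⊥
    · obtain ⟨⟨z, hz⟩, hz1⟩ := ne_bot_iff_exists_ne_one.mp hne
      exact ⟨z, hz, fun h => hz1 (Subtype.ext h), L, le_sup_left, mem_sup_right hz, hab⟩
    · have hlt : Nat.card L < n := by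
        rw [← hn]
        exact lt_of_le_of_ne (Subgroup.card_le_of_le hLH)
          (fun e => hproper (eq_of_le_of_card_ge hLH e.ge))
      obtain ⟨z, hz, hz1, L', h1, h2, h3⟩ := ih _ hlt L rfl le_sup_left hab
      exact ⟨z, commutator_mono (inf_le_inf_left B hLH) (inf_le_inf_left B hLH) hz, hz1, L', h1, h2, h3⟩

theorem derived_bound : ∀ (n : ℕ) {G : Type u} [Group G] [Finite G] [Group.IsSolvable G], Nat.card G = n →
    ∀ A B : Subgroup G, (∀ x ∈ A, ∀ y ∈ A, x * y = y * x) → (∀ z ∈ ⁅B, B⁆, ∀ b ∈ B, b * z = z * b) →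
      (∀ g : G, ∃ a ∈ A, ∃ b ∈ B, g = a * b) →
      derivedSeries G (2 * (1 + (Nat.card ↥⁅B, B⁆).primeFactorsList.length)) = ⊥ := by
  intro n
  induction n using Nat.strong_induction_on with
  | _ n ih =>
    intro G _ _ _ hn A B hA hB hAB
    haveI : IsMulCommutative A := ⟨⟨fun x y => Subtype.ext (hA x x.2 y y.2)⟩⟩
    by_cases hne : ⁅B, B⁆ = ⊥
    · haveI : IsMulCommutative B := ⟨⟨fun x y => Subtype.ext (commutatorElement_eq_one_iff_mul_comm.mp
        (mem_bot.mp (hne ▸ commutator_mem_commutator x.2 y.2)))⟩⟩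
      have h2 := Cfsg.Agent.S0572.result A B hAB
      exact le_bot_iff.mp ((derivedSeries_antitone G (by omega : 2 ≤ _)).trans h2.le)
    · obtain ⟨z, hz, hz1, L, hAL, hzL, hLab⟩ := exists_metabelian A B hA hB hAB _ ⊤ rfl le_top (by rwa [inf_top_eq])
      rw [inf_top_eq] at hz
      set K := normalClosure ({z} : Set G) with hK
      have hKL : K ≤ L := by
        refine (closure_le L).mpr fun x hx => ?_
        obtain ⟨w, rfl, g, rfl⟩ := Group.mem_conjugatesOfSet_iff.mp hx |> fun ⟨w, hw, hc⟩ =>
          (⟨w, hw, isConj_iff.mp hc⟩ : ∃ w, w = z ∧ ∃ g : G, g * w * g⁻¹ = x)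
        obtain ⟨a, ha, b, hb, rfl⟩ := hAB g
        have e : a * b * w * (a * b)⁻¹ = a * w * a⁻¹ := by
          rw [mul_inv_rev, mul_assoc a b w, hB w hz b hb]; group
        rw [e]
        exact mul_mem (mul_mem (hAL ha) hzL) (inv_mem (hAL ha))
      have hL2 : derivedSeries L 2 = ⊥ := by
        haveI : IsMulCommutative (A.subgroupOf L) := ⟨⟨fun x y => Subtype.ext (Subtype.ext (hA _ x.2 _ y.2))⟩⟩
        haveI : IsMulCommutative ((B ⊓ L).subgroupOf L) := ⟨⟨fun x y => Subtype.ext (Subtype.ext
          (commutatorElement_eq_one_iff_mul_comm.mp (mem_bot.mp (hLab ▸ commutator_mem_commutator x.2 y.2))))⟩⟩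
        refine Cfsg.Agent.S0572.result (A.subgroupOf L) ((B ⊓ L).subgroupOf L) fun g => ?_
        obtain ⟨a, ha, b, hb, e⟩ := factor hAB hAL g g.2
        exact ⟨⟨a, hAL ha⟩, ha, ⟨b, hb.2⟩, hb, Subtype.ext e⟩
      have hK2 : derivedSeries K 2 = ⊥ := by
        apply map_injective (inclusion_injective hKL)
        rw [Subgroup.map_bot, eq_bot_iff]
        exact (map_derivedSeries_le_derivedSeries _ 2).trans hL2.le
      have hzK : z ∈ K := subset_normalClosure rfl
      have hK0 : K ≠ ⊥ := fun h => hz1 (by rw [h] at hzK; exact mem_bot.mp hzK)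
      set f := QuotientGroup.mk' K with hf
      have hlt : Nat.card (G ⧸ K) < n := by
        rw [← hn, K.card_eq_card_quotient_mul_card_subgroup]
        exact lt_mul_of_one_lt_right Nat.card_pos (K.one_lt_card_iff_ne_bot.mpr hK0)
      have hq := ih _ hlt (G := G ⧸ K) rfl (A.map f) (B.map f)
        (by rintro _ ⟨x, hx, rfl⟩ _ ⟨y, hy, rfl⟩; rw [← map_mul, hA x hx y hy, map_mul])
        (fun w hw b hb => by
          rw [← map_commutator] at hw
          obtain ⟨w, hw, rfl⟩ := hw
          obtain ⟨b, hb, rfl⟩ := hb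
          rw [← map_mul, hB w hw b hb, map_mul])
        (fun g => by
          obtain ⟨g, rfl⟩ := QuotientGroup.mk'_surjective K g
          obtain ⟨a, ha, b, hb, rfl⟩ := hAB g
          exact ⟨_, ⟨a, ha, rfl⟩, _, ⟨b, hb, rfl⟩, map_mul _ _ _⟩)
      rw [← map_commutator] at hq
      have hlen : (Nat.card ↥(⁅B, B⁆.map f)).primeFactorsList.length + 1 ≤
          (Nat.card ↥⁅B, B⁆).primeFactorsList.length := by
        set D := ⁅B, B⁆ with hD
        set φ := f.subgroupMap D with hφ
        have hcard : Nat.card D = Nat.card ↥(D.map f) * Nat.card φ.ker := by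
          rw [φ.ker.card_eq_card_quotient_mul_card_subgroup]
          congr 1
          exact Nat.card_congr (QuotientGroup.quotientKerEquivOfSurjective φ (f.subgroupMap_surjective D)).toEquiv
        have hker : 1 < Nat.card φ.ker := by
          rw [one_lt_card_iff_ne_bot]
          intro h
          have : (⟨z, hz⟩ : D) ∈ φ.ker := Subtype.ext ((QuotientGroup.eq_one_iff z).mpr hzK)
          rw [h, mem_bot] at this
          exact hz1 (congrArg Subtype.val this)
        rw [hcard, ← ArithmeticFunction.cardFactors_apply, ← ArithmeticFunction.cardFactors_apply,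
          ArithmeticFunction.cardFactors_mul Nat.card_pos.ne' Nat.card_pos.ne']
        have : 0 < ArithmeticFunction.cardFactors (Nat.card φ.ker) := by
          rw [ArithmeticFunction.cardFactors_apply, List.length_pos_iff]
          intro h
          rw [Nat.primeFactorsList_eq_nil] at h; omega
        omega
      set m := 2 * (1 + (Nat.card ↥(⁅B, B⁆.map f)).primeFactorsList.length) with hm
      have hmK : derivedSeries G m ≤ K := fun x hx => by
        have : f x ∈ derivedSeries (G ⧸ K) m := map_derivedSeries_le_derivedSeries f m (mem_map_of_mem f hx)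
        rw [hq, mem_bot] at this
        exact (QuotientGroup.eq_one_iff x).mp this
      have hstep : ∀ j, derivedSeries G (m + j) ≤ (derivedSeries K j).map K.subtype := by
        intro j
        induction j with
        | zero => rwa [derivedSeries_zero, ← MonoidHom.range_eq_map, range_subtype, add_zero]
        | succ j ihj =>
          rw [← add_assoc, derivedSeries_succ, derivedSeries_succ, map_commutator]
          exact commutator_mono ihj ihj
      have h2 : derivedSeries G (m + 2) = ⊥ := le_bot_iff.mp ((hstep 2).trans (by rw [hK2, Subgroup.map_bot]))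
      exact le_bot_iff.mp ((derivedSeries_antitone G (by omega : m + 2 ≤ _)).trans h2.le)

end CfsgLib.AbelianClassTwo
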